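import Mathlib.NumberTheory.Cyclotomic.PrimitiveRoots
import Mathlib.FieldTheory.Galois.Basic
import Mathlib.LinearAlgebra.Pi

/-! An automorphism fixing a regular element of prime order in a group of prime degree has
square induced by a power of that element. -/

set_option autoImplicit false

namespace Cfsg.Agent.PrimeIndexOut

open Equiv IntermediateField

variable {p : ℕ} [Fact p.Prime] {K : Type} [Field K] [CharZero K] [IsCyclotomicExtension {p} ℚ K]

variable (K) in
/-- The standard root of unity to the power of a residue. -/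
noncomputable def chiK (i : ZMod p) : K :=
  IsCyclotomicExtension.zeta p ℚ K ^ i.val

local notation "χp" => chiK (p := p) K

theorem zeta_prim : IsPrimitiveRoot (IsCyclotomicExtension.zeta p ℚ K) p :=
  IsCyclotomicExtension.zeta_spec p ℚ K

theorem chi_natCast (n : ℕ) : χp (n : ZMod p) = IsCyclotomicExtension.zeta p ℚ K ^ n := by
  rw [chiK, ZMod.val_natCast]
  conv_lhs => rw [show n % p = n % orderOf (IsCyclotomicExtension.zeta p ℚ K) by
    rw [← (zeta_prim (p := p) (K := K)).eq_orderOf]]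
  exact pow_mod_orderOf _ _

theorem chi_add (i j : ZMod p) : χp (i + j) = χp i * χp j := by
  rw [← ZMod.natCast_zmod_val i, ← ZMod.natCast_zmod_val j, ← Nat.cast_add, chi_natCast, chi_natCast,
    chi_natCast, pow_add]

theorem chi_zero : χp (0 : ZMod p) = 1 := by rw [chiK, ZMod.val_zero, pow_zero]

theorem chi_one : χp (1 : ZMod p) = IsCyclotomicExtension.zeta p ℚ K := by
  simpa using chi_natCast (p := p) (K := K) 1

theorem chi_ne_zero (i : ZMod p) : χp i ≠ 0 :=
  pow_ne_zero _ ((zeta_prim (p := p) (K := K)).ne_zero (Fact.out : p.Prime).ne_zero)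

theorem chi_injective : Function.Injective (χp : ZMod p → K) := fun _ _ h =>
  ZMod.val_injective p ((zeta_prim (p := p) (K := K)).pow_inj (ZMod.val_lt _) (ZMod.val_lt _) h)

theorem sum_chi : ∑ i : ZMod p, χp i = 0 := by
  have h : χp (1 : ZMod p) * ∑ i : ZMod p, χp i = ∑ i : ZMod p, χp i := by
    rw [Finset.mul_sum, ← Equiv.sum_comp (Equiv.addLeft (1 : ZMod p)) χp]
    exact Finset.sum_congr rfl fun i _ => (chi_add _ _).symm
  by_contra hne
  have h1 : χp (1 : ZMod p) = χp 0 := by
    rw [chi_zero]; exact (mul_eq_right₀ hne).mp h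
  exact one_ne_zero (chi_injective h1)

theorem span_chi : Submodule.span ℚ (Set.range (χp : ZMod p → K)) = ⊤ := by
  rw [eq_top_iff, ← ((zeta_prim (p := p) (K := K)).powerBasis ℚ).basis.span_eq, Submodule.span_le]
  rintro _ ⟨i, rfl⟩
  refine Submodule.subset_span ⟨((i : ℕ) : ZMod p), ?_⟩
  rw [chi_natCast, PowerBasis.basis_eq_pow, IsPrimitiveRoot.powerBasis_gen]

variable (K) in
/-- The evaluation of functions on residues at the root of unity. -/
noncomputable def evK : (ZMod p → ℚ) →ₗ[ℚ] K := Fintype.linearCombination ℚ χp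

local notation "evp" => evK (p := p) K

theorem ev_single (i : ZMod p) : evp (Pi.single i 1) = χp i := by
  rw [evK, Fintype.linearCombination_apply_single, one_smul]

theorem ev_surjective : Function.Surjective (evp) := by
  rw [← LinearMap.range_eq_top, evK, Fintype.range_linearCombination, span_chi]

theorem ev_ker {f : ZMod p → ℚ} (hf : evp f = 0) : ∃ c : ℚ, f = fun _ => c := by
  have h1 : (fun _ => 1 : ZMod p → ℚ) ∈ LinearMap.ker (evp) := by
    rw [LinearMap.mem_ker, evK, Fintype.linearCombination_apply]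
    simpa using sum_chi
  have hd : Module.finrank ℚ (LinearMap.ker (evp)) = 1 := by
    have h := (evp).finrank_range_add_finrank_ker
    rw [LinearMap.range_eq_top.mpr ev_surjective, finrank_top, Module.finrank_fintype_fun_eq_card, ZMod.card,
      IsCyclotomicExtension.finrank (n := p) K (Polynomial.cyclotomic.irreducible_rat (Fact.out : p.Prime).pos),
      Nat.totient_prime Fact.out] at h
    have := (Fact.out : p.Prime).two_le
    omega
  obtain ⟨c, hc⟩ := exists_smul_eq_of_finrank_eq_one hd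
    (x := (⟨_, h1⟩ : LinearMap.ker (evp)))
    (fun h => by simpa using congrFun (congrArg Subtype.val h) 0) ⟨f, hf⟩
  refine ⟨c, ?_⟩
  have := congrArg Subtype.val hc
  simp only [Submodule.coe_smul] at this
  rw [← this]
  ext
  simp

theorem exists_rep (G : Type*) [Group G] (π : G →* Perm (ZMod p)) :
    ∃ R : G → (K →ₗ[ℚ] K),
      (∀ x i, R x (χp i) = χp (π x i)) ∧ (∀ x f, R x (evp f) = evp fun j => f ((π x)⁻¹ j)) := by
  obtain ⟨s, hs⟩ := (evp).exists_rightInverse_of_surjective (LinearMap.range_eq_top.mpr ev_surjective)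
  let R : G → (K →ₗ[ℚ] K) := fun x => evp ∘ₗ (LinearMap.funLeft ℚ ℚ ⇑((π x)⁻¹ : Perm (ZMod p))) ∘ₗ s
  have h : ∀ x f, R x (evp f) = evp fun j => f ((π x)⁻¹ j) := by
    intro x f
    have h0 : evp (s (evp f) - f) = 0 := by
      rw [map_sub, show evp (s (evp f)) = evp f from LinearMap.congr_fun hs (evp f), sub_self]
    obtain ⟨c, hc⟩ := ev_ker h0
    have h1 : evp (fun _ : ZMod p => c) = 0 := hc ▸ h0
    show evp (fun j => s (evp f) ((π x)⁻¹ j)) = _
    rw [show (fun j => s (evp f) ((π x)⁻¹ j)) = (fun j => f ((π x)⁻¹ j)) + fun _ => c from funext fun j => by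
      rw [Pi.add_apply, ← congrFun hc ((π x)⁻¹ j)]; simp, map_add, h1, add_zero]
  refine ⟨R, fun x i => ?_, h⟩
  rw [← ev_single, h, ← ev_single]
  congr 1
  ext j
  simp [Pi.single_apply, Equiv.Perm.inv_def, Equiv.symm_apply_eq]

variable (K) in
include K in
theorem exists_square_inner_aux {G : Type*} [Group G] (hp2 : p ≠ 2)
    (π : G →* Perm (ZMod p)) (hπ : Function.Injective π) (t : G) (ht : ∀ i, π t i = i + 1)
    (hnc : t ∉ Subgroup.center G) (a : MulAut G) (hat : a t = t) (hfin : IsOfFinOrder a)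
    (O : Set (ZMod p × ZMod p)) (hO : ∀ x i j, (i, j) ∈ O → (π x i, π (a x) j) ∈ O)
    (h0 : ((0 : ZMod p), (0 : ZMod p)) ∈ O) (hne : O ≠ Set.univ) :
    ∃ n : ℕ, ∀ x, a (a x) = t ^ n * x * (t ^ n)⁻¹ := by
  classical
  obtain ⟨R, hRc, hRe⟩ := exists_rep (K := K) G π
  have hext : ∀ A B : K →ₗ[ℚ] K, (∀ i, A (χp i) = B (χp i)) → A = B := fun A B h =>
    LinearMap.ext_on_range span_chi h
  have hRmul : ∀ x y v, R (x * y) v = R x (R y v) := fun x y v =>
    LinearMap.congr_fun (hext (R (x * y)) (R x ∘ₗ R y) fun i => by simp [hRc]) v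
  have hR1 : ∀ v, R 1 v = v := fun v => LinearMap.congr_fun (hext (R 1) LinearMap.id fun i => by simp [hRc]) v
  have hRinj : ∀ x y, (∀ v, R x v = R y v) → x = y := fun x y h => hπ (Equiv.ext fun i =>
    chi_injective (by rw [← hRc, ← hRc, h]))
  have htn : ∀ (n : ℕ) i, π (t ^ n) i = i + (n : ZMod p) := by
    intro n
    induction n with
    | zero => simp
    | succ n ih => intro i; rw [pow_succ, map_mul, Perm.mul_apply, ht, ih]; push_cast; ring
  have hRt : ∀ (n : ℕ) v, R (t ^ n) v = χp (n : ZMod p) * v := fun n v =>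
    LinearMap.congr_fun (hext (R (t ^ n)) (LinearMap.mulLeft ℚ (χp (n : ZMod p))) fun i => by
      rw [hRc, htn, chi_add, LinearMap.mulLeft_apply, mul_comm]) v
  have hOiff : ∀ x i j, (π x i, π (a x) j) ∈ O ↔ (i, j) ∈ O := by
    refine fun x i j => ⟨fun h => ?_, hO x i j⟩
    have h' := hO x⁻¹ _ _ h
    simpa [map_inv] using h'
  let fr : ZMod p → ZMod p → ℚ := fun i j => if (i, j) ∈ O then 1 else 0
  set d := evp (fr 0) with hd
  have hshift : ∀ x i, (fun j => fr i ((π (a x))⁻¹ j)) = fr (π x i) := by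
    intro x i
    funext j
    simp only [fr]
    refine if_congr ?_ rfl rfl
    rw [← hOiff x i]
    simp
  have hdi : ∀ i, d * χp i = evp (fr i) := by
    intro i
    have hat' : a (t ^ i.val) = t ^ i.val := by rw [map_pow, hat]
    have h := hRt i.val d
    rw [ZMod.natCast_zmod_val, hd, hRe] at h
    rw [mul_comm, ← h]
    congr 1
    have h' := hshift (t ^ i.val) 0
    rw [hat', htn, ZMod.natCast_zmod_val, zero_add] at h'
    exact h'
  have hint : ∀ x v, R (a x) (d * v) = d * R x v := fun x v =>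
    LinearMap.congr_fun (hext (R (a x) ∘ₗ LinearMap.mulLeft ℚ d) (LinearMap.mulLeft ℚ d ∘ₗ R x) fun i => by
      simp only [LinearMap.comp_apply, LinearMap.mulLeft_apply]
      rw [hdi, hRe, hshift, ← hdi, hRc]) v
  have hd0 : d ≠ 0 := by
    intro h
    obtain ⟨c, hc⟩ := ev_ker h
    have hc1 : c = 1 := by
      have := congrFun hc 0
      simp [fr, h0] at this
      exact this.symm
    refine hne (Set.eq_univ_of_forall fun q => ?_)
    have h1 := congrFun hc (q.2 - q.1)
    simp [fr, hc1] at h1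
    have h2 := hO (t ^ q.1.val) _ _ h1
    rw [map_pow a, hat, htn, htn, ZMod.natCast_zmod_val, zero_add, sub_add_cancel] at h2
    exact h2
  have hintn : ∀ (n : ℕ) x v, R ((a ^ n) x) (d ^ n * v) = d ^ n * R x v := by
    intro n
    induction n with
    | zero => intro x v; simp
    | succ n ih =>
      intro x v
      rw [pow_succ' a, MulAut.mul_apply, pow_succ' d, mul_assoc, hint, ih, mul_assoc]
  -- the commutant field
  let F0 : Subfield K :=
    { carrier := {c | ∀ x v, R x (c * v) = c * R x v}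
      mul_mem' := fun {c e} hc he x v => by rw [mul_assoc, hc, he, mul_assoc]
      one_mem' := fun x v => by simp
      add_mem' := fun {c e} hc he x v => by rw [add_mul, map_add, hc, he, add_mul]
      zero_mem' := fun x v => by simp
      neg_mem' := fun {c} hc x v => by rw [neg_mul, map_neg, hc, neg_mul]
      inv_mem' := fun c hc x v => by
        rcases eq_or_ne c 0 with rfl | h
        · simp
        · apply mul_left_cancel₀ h
          rw [← hc, mul_inv_cancel_left₀ h, mul_inv_cancel_left₀ h] }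
  let F : IntermediateField ℚ K := F0.toIntermediateField fun q x v => by
    rw [← Algebra.smul_def, ← Algebra.smul_def]
    exact map_smul (R x) q v
  have hzF : χp (1 : ZMod p) ∉ F := fun h => hnc (Subgroup.mem_center_iff.mpr fun g => hRinj _ _ fun v => by
    have e := hRt 1
    rw [pow_one, Nat.cast_one] at e
    rw [hRmul, hRmul, e, e]
    exact h g v)
  haveI : FiniteDimensional ℚ K := IsCyclotomicExtension.finiteDimensional {p} ℚ K
  haveI : NumberField K := IsCyclotomicExtension.numberField {p} ℚ K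
  haveI : IsGalois ℚ K := IsCyclotomicExtension.isGalois {p} ℚ K
  have hmem : ∀ y : K, (∀ τ : K ≃ₐ[F] K, τ y = y) → y ∈ F := by
    intro y hy
    obtain ⟨c, hc⟩ := IntermediateField.mem_bot.mp ((IsGalois.mem_bot_iff_fixed (F := F) y).mpr hy)
    rw [← hc]
    exact c.2
  obtain ⟨σ, hσ⟩ : ∃ σ : K ≃ₐ[F] K, σ (χp 1) ≠ χp 1 := by
    by_contra hc
    push Not at hc
    exact hzF (hmem _ hc)
  obtain ⟨r, hr, har⟩ := isOfFinOrder_iff_pow_eq_one.mp hfin
  have hdr : d ^ r ∈ F := fun x v => by simpa [har] using hintn r x v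
  have hdata : ∀ τ : K ≃ₐ[F] K, ∃ g j : ZMod p,
      (∀ m, τ (χp m) = χp (g * m)) ∧ τ (d ^ 2) = χp j * d ^ 2 := by
    intro τ
    have hz : (τ (IsCyclotomicExtension.zeta p ℚ K)) ^ p = 1 := by
      rw [← map_pow, (zeta_prim (p := p) (K := K)).pow_eq_one, map_one]
    obtain ⟨g, -, hg⟩ := (zeta_prim (p := p) (K := K)).eq_pow_of_pow_eq_one hz
    have hu : (τ d / d) ^ r = 1 := by
      rw [div_pow, ← map_pow, show τ (d ^ r) = d ^ r from τ.commutes ⟨_, hdr⟩, div_self (pow_ne_zero r hd0)]
    obtain ⟨j, -, hj⟩ := (zeta_prim (p := p) (K := K)).exists_pow_or_neg_mul_pow_of_isOfFinOrder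
      ((Fact.out : p.Prime).odd_of_ne_two hp2) (isOfFinOrder_iff_pow_eq_one.mpr ⟨r, hr, hu⟩)
    refine ⟨g, ((2 * j : ℕ) : ZMod p), fun m => ?_, ?_⟩
    · rw [← ZMod.natCast_zmod_val m, ← Nat.cast_mul, chi_natCast, chi_natCast, map_pow, ← hg, pow_mul]
    · rw [chi_natCast, map_pow, pow_mul', ← mul_pow]
      rcases hj with hj | hj
      · rw [← hj, div_mul_cancel₀ _ hd0]
      · rw [← neg_eq_iff_eq_neg.mpr hj, neg_mul, neg_sq, div_mul_cancel₀ _ hd0]
  obtain ⟨g, j, hg, hj⟩ := hdata σ
  have hg1 : g ≠ 1 := fun h => hσ (by rw [hg, h, one_mul])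
  set s := -j / (g - 1) with hs
  set y := d ^ 2 * χp s with hy
  have hy0 : y ≠ 0 := mul_ne_zero (pow_ne_zero 2 hd0) (chi_ne_zero s)
  have hσy : σ y = y := by
    rw [hy, map_mul, hj, hg, mul_comm (χp j), mul_assoc, ← chi_add]
    congr 2
    rw [hs]
    field_simp [sub_ne_zero.mpr hg1]
    ring
  have hyF : y ∈ F := by
    refine hmem y fun τ => ?_
    obtain ⟨g', j', hg', hj'⟩ := hdata τ
    have hcomm : ∀ v, σ (τ v) = τ (σ v) := fun v =>
      LinearMap.congr_fun (hext
        ((σ.restrictScalars ℚ).toLinearMap ∘ₗ (τ.restrictScalars ℚ).toLinearMap)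
        ((τ.restrictScalars ℚ).toLinearMap ∘ₗ (σ.restrictScalars ℚ).toLinearMap) fun i => by
          simp only [LinearMap.comp_apply, AlgEquiv.toLinearMap_apply, AlgEquiv.restrictScalars_apply]
          rw [hg', hg, hg, hg', mul_left_comm]) v
    have hτy : τ y = χp (j' + g' * s - s) * y := by
      rw [hy, map_mul, hj', hg', mul_comm (χp j') (d ^ 2), mul_assoc, ← chi_add,
        show χp (j' + g' * s - s) * (d ^ 2 * χp s) = d ^ 2 * (χp (j' + g' * s - s) * χp s) by ring,
        ← chi_add, sub_add_cancel]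
    have h := hcomm y
    rw [hσy, hτy, map_mul, hg, hσy] at h
    have h' := chi_injective (mul_right_cancel₀ hy0 h)
    have h0' : (g - 1) * (j' + g' * s - s) = 0 := by rw [sub_mul, one_mul, h', sub_self]
    rw [hτy, (mul_eq_zero.mp h0').resolve_left (sub_ne_zero.mpr hg1), chi_zero, one_mul]
  refine ⟨(-s).val, fun x => eq_mul_inv_of_mul_eq (hRinj _ _ fun v => ?_)⟩
  have h := hintn 2 x v
  have hd2 : d ^ 2 = y * χp (-s) := by
    rw [hy, mul_assoc, ← chi_add, add_neg_cancel, chi_zero, mul_one]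
  rw [pow_two a, MulAut.mul_apply, hd2, mul_assoc y, mul_assoc y, hyF] at h
  rw [hRmul, hRmul, hRt, hRt, ZMod.natCast_zmod_val]
  exact mul_left_cancel₀ hy0 h

theorem exists_square_inner {p : ℕ} [Fact p.Prime] {G : Type*} [Group G] (hp2 : p ≠ 2)
    (π : G →* Perm (ZMod p)) (hπ : Function.Injective π) (t : G) (ht : ∀ i, π t i = i + 1)
    (hnc : t ∉ Subgroup.center G) (a : MulAut G) (hat : a t = t) (hfin : IsOfFinOrder a)
    (O : Set (ZMod p × ZMod p)) (hO : ∀ x i j, (i, j) ∈ O → (π x i, π (a x) j) ∈ O)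
    (h0 : ((0 : ZMod p), (0 : ZMod p)) ∈ O) (hne : O ≠ Set.univ) :
    ∃ n : ℕ, ∀ x, a (a x) = t ^ n * x * (t ^ n)⁻¹ := by
  haveI : NeZero ((p : ℕ) : ℚ) := ⟨Nat.cast_ne_zero.mpr (Fact.out : p.Prime).ne_zero⟩
  haveI : IsCyclotomicExtension {p} ℚ (CyclotomicField p ℚ) := by
    convert CyclotomicField.isCyclotomicExtension p ℚ using 2
    all_goals first | rfl | exact Subsingleton.elim _ _
  exact exists_square_inner_aux (CyclotomicField p ℚ) hp2 π hπ t ht hnc a hat hfin O hO h0 hne

end Cfsg.Agent.PrimeIndexOut
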